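import Groth.Agent.Lib.PicDesc21.Frame
import Groth.Agent.Lib.FormalH7.Nbhd

/-!
Multiplication by global functions on modules; endomorphisms of invertible modules are scalars.
-/

set_option autoImplicit false
set_option backward.isDefEq.respectTransparency false

universe u

open CategoryTheory CategoryTheory.Limits AlgebraicGeometry Opposite TopologicalSpace

noncomputable section

namespace Groth.Agent.ThetaGrp19

open Groth.Agent.M1 Groth.Agent.Twist Groth.Agent.PicDesc21

variable {X Y : Scheme.{u}}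

/-- Multiplication by a global function. -/
def smulHom (M : X.Modules) (c : Γ(X, ⊤)) : M ⟶ M :=
  ⟨PresheafOfModules.homMk
    { app := fun V => AddCommGrpCat.ofHom
        (AddMonoidHom.mk' (fun s : Γ(M, V.unop) => ores (le_top : V.unop ≤ ⊤) c • s) (fun s t => smul_add _ s t))
      naturality := fun V V' i => by
        refine ConcreteCategory.hom_ext _ _ fun (s : Γ(M, V.unop)) => ?_
        show ores (le_top : V'.unop ≤ ⊤) c • mres M (leOfHom i.unop) s =
          mres M (leOfHom i.unop) (ores (le_top : V.unop ≤ ⊤) c • s)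
        rw [mres_smul, ores_ores] }
    (fun V (r : Γ(X, V.unop)) (s : Γ(M, V.unop)) => by
      show ores (le_top : V.unop ≤ ⊤) c • r • s = r • (ores (le_top : V.unop ≤ ⊤) c • s)
      rw [← mul_smul, ← mul_smul, mul_comm])⟩

theorem smulHom_app (M : X.Modules) (c : Γ(X, ⊤)) (V : X.Opens) (s : Γ(M, V)) :
    (smulHom M c).app V s = ores (le_top : V ≤ ⊤) c • s := rfl

theorem smulHom_one (M : X.Modules) : smulHom M 1 = 𝟙 M :=
  Scheme.Modules.hom_ext _ _ fun V => by ext s; rw [smulHom_app, map_one, one_smul]; rfl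

theorem smulHom_comp (M : X.Modules) (c d : Γ(X, ⊤)) : smulHom M c ≫ smulHom M d = smulHom M (c * d) :=
  Scheme.Modules.hom_ext _ _ fun V => by
    ext s
    show (smulHom M d).app V ((smulHom M c).app V s) = _
    rw [smulHom_app, smulHom_app, smulHom_app, map_mul, mul_comm, mul_smul]

theorem smulHom_naturality {M N : X.Modules} (φ : M ⟶ N) (c : Γ(X, ⊤)) :
    smulHom M c ≫ φ = φ ≫ smulHom N c :=
  Scheme.Modules.hom_ext _ _ fun V => by
    ext s
    show φ.app V ((smulHom M c).app V s) = (smulHom N c).app V (φ.app V s)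
    rw [smulHom_app, smulHom_app]
    rw [Scheme.Modules.Hom.app_smul]

variable {L : X.Modules} (hL : PicF.IsInvertible L)

include hL in
theorem exists_gens : ∃ (U : X → X.Opens) (g : ∀ x, Γ(L, U x)), (∀ x, x ∈ U x) ∧ ∀ x, IsGen L (U x) (g x) := by
  choose D g hD hg using exists_gen hL
  exact ⟨D, g, hD, hg⟩

theorem hom_ext_gens {M : X.Modules} {U : X → X.Opens} {g : ∀ x, Γ(L, U x)} (hU : ∀ x, x ∈ U x)
    (hg : ∀ x, IsGen L (U x) (g x)) {φ ψ : L ⟶ M} (h : ∀ x, φ.app (U x) (g x) = ψ.app (U x) (g x)) : φ = ψ := by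
  refine Scheme.Modules.hom_ext _ _ fun V => ?_
  ext s
  refine modules_eq_of_locally_eq M V (fun x => V ⊓ U x) (fun x => inf_le_left)
    (fun z hz => Opens.mem_iSup.2 ⟨z, hz, hU z⟩) _ _ fun x => ?_
  obtain ⟨r, hr⟩ := (hg x _ inf_le_right).2 (mres L (inf_le_left : V ⊓ U x ≤ V) s)
  rw [← app_mres φ, ← app_mres ψ, ← hr, Scheme.Modules.Hom.app_smul, Scheme.Modules.Hom.app_smul,
    app_mres, app_mres, h x]

include hL in
/-- Endomorphisms of an invertible module are scalars. -/
theorem existsUnique_smulHom (φ : L ⟶ L) : ∃! c : Γ(X, ⊤), φ = smulHom L c := by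
  obtain ⟨U, g, hU, hg⟩ := exists_gens hL
  have ha : ∀ x, ∃ a : Γ(X, U x), a • g x = φ.app (U x) (g x) := fun x => by
    obtain ⟨a, ha⟩ := (hg x _ le_rfl).2 (φ.app (U x) (g x))
    exact ⟨a, by simpa [mres_id] using ha⟩
  choose a ha using ha
  have hloc : ∀ (x : X) (V : X.Opens) (h : V ≤ U x) (s : Γ(L, V)), φ.app V s = ores h (a x) • s := by
    intro x V h s
    obtain ⟨r, rfl⟩ := (hg x V h).2 s
    rw [Scheme.Modules.Hom.app_smul, app_mres φ, ← ha, mres_smul, smul_comm]
  obtain ⟨c, hc, -⟩ := X.sheaf.existsUnique_gluing' U ⊤ (fun x => homOfLE le_top)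
    (fun z _ => Opens.mem_iSup.2 ⟨z, hU z⟩) a fun x y => by
      refine (hg x _ inf_le_left).1 ?_
      exact ((hloc x _ inf_le_left _).symm.trans (hloc y _ inf_le_right _))
  have hc' : ∀ x, ores (le_top : U x ≤ ⊤) c = a x := hc
  refine ⟨c, hom_ext_gens hU hg fun x => ?_, fun d hd => ?_⟩
  · rw [smulHom_app, hc', ha]
  · refine X.sheaf.eq_of_locally_eq' U ⊤ (fun x => homOfLE le_top)
      (fun z _ => Opens.mem_iSup.2 ⟨z, hU z⟩) _ _ fun x => ?_
    refine (hg x _ le_rfl).1 ?_
    show ores (le_top : U x ≤ ⊤) d • mres L le_rfl (g x) = ores (le_top : U x ≤ ⊤) c • mres L le_rfl (g x)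
    rw [mres_id, hc', ha, hd, smulHom_app]

include hL in
theorem smulHom_injective {c d : Γ(X, ⊤)} (h : smulHom L c = smulHom L d) : c = d :=
  (existsUnique_smulHom hL (smulHom L c)).unique rfl h

include hL in
theorem pullback_map_smulHom (f : Y ⟶ X) (c : Γ(X, ⊤)) :
    (Scheme.Modules.pullback f).map (smulHom L c) = smulHom ((Scheme.Modules.pullback f).obj L) (f.appTop c) := by
  choose U g hU hg using exists_gen hL
  refine hom_ext_gens (U := fun y => f ⁻¹ᵁ U (f y)) (g := fun y => M2.pullSec f L (g (f y))) (fun y => hU (f y))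
    (fun y => (hg (f y)).pullback f) fun y => ?_
  rw [FormalH7.pullSec_naturality, smulHom_app, smulHom_app, M2.pullSec_smul]
  congr 1
  exact (ConcreteCategory.congr_hom (f.naturality (homOfLE (le_top : U (f y) ≤ ⊤)).op) c)

end Groth.Agent.ThetaGrp19
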