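import Groth.Agent.Lib.ThetaGrp19.Comm
import Groth.Agent.Lib.ModLimH13.Sections

/-!
Isomorphisms of invertible modules descend along faithfully flat morphisms of finite presentation,
in the language of cartesian morphisms.
-/

set_option autoImplicit false
set_option backward.isDefEq.respectTransparency false
set_option backward.isDefEq.respectTransparency.types false

universe u

open CategoryTheory CategoryTheory.Limits AlgebraicGeometry TopologicalSpace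
open CategoryTheory.Pseudofunctor

namespace Groth.Agent.ThetaGrp19

open ThetaGrp Groth.Agent.M1 Groth.Agent.Twist Groth.Agent.PicDesc21

variable {X Y Z : CoGrothendieck (modPF.{u})}

/-- The module of an object, as a module on its base. -/
noncomputable abbrev md (X : CoGrothendieck (modPF.{u})) : X.base.Modules := X.fiber

/-- The module part of a morphism. -/
noncomputable def fm (f : X ⟶ Y) : md X ⟶ (Scheme.Modules.pullback f.base).obj (md Y) := f.fiber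

/-- `t` is the pullback of the section `s` along `f`. -/
def IsPsec (f : X ⟶ Y) {U : Y.base.Opens} (t : Γ(md X, f.base ⁻¹ᵁ U))
    (s : Γ(md Y, U)) : Prop :=
  (fm f).app (f.base ⁻¹ᵁ U) t = M2.pullSec f.base (md Y) s

theorem bijective_fiber (f : X ⟶ Y) (hf : IsCart f) (W : X.base.Opens) :
    Function.Bijective ((fm f).app W) :=
  have : IsIso (fm f) := hf
  (ConcreteCategory.isIso_iff_bijective _).1 inferInstance

theorem exists_psec (f : X ⟶ Y) (hf : IsCart f) {U : Y.base.Opens} (s : Γ(md Y, U)) :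
    ∃ t, IsPsec f t s := (bijective_fiber f hf _).2 _

theorem IsPsec.smul {f : X ⟶ Y} {U : Y.base.Opens} {t : Γ(md X, f.base ⁻¹ᵁ U)}
    {s : Γ(md Y, U)} (h : IsPsec f t s) (r : Γ(Y.base, U)) :
    IsPsec f (f.base.app U r • t) (r • s) := by
  unfold IsPsec at h ⊢
  rw [Scheme.Modules.Hom.app_smul, h, M2.pullSec_smul]

theorem IsPsec.mres {f : X ⟶ Y} {U V : Y.base.Opens} (e : V ≤ U) {t : Γ(md X, f.base ⁻¹ᵁ U)}
    {s : Γ(md Y, U)} (h : IsPsec f t s) :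
    IsPsec f (M1.mres _ (f.base.preimage_mono e) t) (M1.mres _ e s) := by
  unfold IsPsec at h ⊢
  rw [app_mres, h]
  exact (pullSec_mres f.base (md Y) e s).symm

theorem IsPsec.inj {f : X ⟶ Y} (hf : IsCart f) {U : Y.base.Opens} {t t' : Γ(md X, f.base ⁻¹ᵁ U)}
    {s : Γ(md Y, U)} (h : IsPsec f t s) (h' : IsPsec f t' s) : t = t' :=
  (bijective_fiber f hf _).1 (h.trans h'.symm)

theorem IsPsec.comp {f : X ⟶ Y} {g : Y ⟶ Z} {U : Z.base.Opens}
    {t' : Γ(md X, f.base ⁻¹ᵁ g.base ⁻¹ᵁ U)}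
    {t : Γ(md Y, g.base ⁻¹ᵁ U)} {s : Γ(md Z, U)}
    (hg : IsPsec g t s) (hf : IsPsec f t' t) : IsPsec (f ≫ g) (U := U) t' s := by
  unfold IsPsec at hg hf ⊢
  show ((Scheme.Modules.pullbackComp f.base g.base).hom.app (md Z)).app _
    (((Scheme.Modules.pullback f.base).map (fm g)).app _ ((fm f).app _ t')) = _
  rw [hf, FormalH7.pullSec_naturality, hg]
  exact ModLimH13.pullbackComp_pullSec f.base g.base (md Z) s

theorem IsPsec.eq_of_eq {f g : X ⟶ Y} (e : f = g) (hg : IsCart g) {U : Y.base.Opens}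
    {t : Γ(md X, f.base ⁻¹ᵁ U)} {t' : Γ(md X, g.base ⁻¹ᵁ U)}
    {s : Γ(md Y, U)} (h : IsPsec f t s) (h' : IsPsec g t' s) (W : X.base.Opens)
    (e₁ : W ≤ f.base ⁻¹ᵁ U) (e₂ : W ≤ g.base ⁻¹ᵁ U) : M1.mres _ e₁ t = M1.mres _ e₂ t' := by
  subst e
  rw [h.inj hg h']

theorem isGen_psec {f : X ⟶ Y} (hf : IsCart f) {U : Y.base.Opens} {t : Γ(md X, f.base ⁻¹ᵁ U)}
    {s : Γ(md Y, U)} (hs : IsGen (md Y) U s) (h : IsPsec f t s) :
    IsGen (md X) (f.base ⁻¹ᵁ U) t := by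
  intro V hV
  have h' : IsPsec f t s := h
  unfold IsPsec at h'
  refine (Function.Bijective.of_comp_iff' (bijective_fiber f hf V) _).1 ?_
  have h2 := hs.pullback f.base V hV
  rw [← h'] at h2
  convert h2 using 1
  funext r
  simp only [Function.comp_apply, Scheme.Modules.Hom.app_smul, app_mres]

/-- Descent of an isomorphism of invertible modules along a flat surjective lfp morphism. -/
theorem nonempty_iso_of_descent {B : Scheme.{u}} {M₁ M₂ : B.Modules} (hM₁ : PicF.IsInvertible M₁)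
    (hM₂ : PicF.IsInvertible M₂) {E' EP : CoGrothendieck (modPF.{u})} (q : E'.base ⟶ B) [Flat q] [Surjective q]
    [LocallyOfFinitePresentation q]
    (l : E' ⟶ (⟨B, M₁⟩ : CoGrothendieck (modPF.{u}))) (hl : IsCart l) (hlb : l.base = q)
    (d : E' ⟶ (⟨B, M₂⟩ : CoGrothendieck (modPF.{u}))) (hd : IsCart d) (hdb : d.base = q)
    (p₁ p₂ : EP ⟶ E') (hp₁ : IsCart p₁) (hp₂ : IsCart p₂) (hpb : IsPullback p₁.base p₂.base q q)
    (el : p₁ ≫ l = p₂ ≫ l) (ed : p₁ ≫ d = p₂ ≫ d) : Nonempty (M₁ ≅ M₂) := by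
  obtain ⟨qd, φd⟩ := d
  obtain ⟨ql, φl⟩ := l
  obtain rfl : ql = q := hlb
  obtain rfl : qd = ql := hdb
  obtain ⟨F⟩ := nonempty_frame hM₁ hM₂
  have hGex : ∀ x, ∃ t : Γ(md E', qd ⁻¹ᵁ F.U x),
      IsPsec (Y := (⟨B, M₁⟩ : CoGrothendieck (modPF.{u}))) ⟨qd, φl⟩ t (F.g x) := fun x => exists_psec _ hl (F.g x)
  have hHex : ∀ x, ∃ t : Γ(md E', qd ⁻¹ᵁ F.U x),
      IsPsec (Y := (⟨B, M₂⟩ : CoGrothendieck (modPF.{u}))) ⟨qd, φd⟩ t (F.m x) := fun x => exists_psec _ hd (F.m x)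
  choose G hG using hGex
  choose H hH using hHex
  have hGg : ∀ x, IsGen (md E') (qd ⁻¹ᵁ F.U x) (G x) := fun x => isGen_psec hl (F.hg x) (hG x)
  have hHg : ∀ x, IsGen (md E') (qd ⁻¹ᵁ F.U x) (H x) := fun x => isGen_psec hd (F.hm x) (hH x)
  choose a ha using fun x => (hHg x _ le_rfl).2 (G x)
  choose b hb using fun x => (hGg x _ le_rfl).2 (H x)
  simp only [mres_id] at ha hb
  have hab : ∀ x, a x * b x = 1 := fun x => by
    refine (hGg x _ le_rfl).1 ?_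
    show (a x * b x) • M1.mres _ le_rfl (G x) = (1 : Γ(E'.base, _)) • M1.mres _ le_rfl (G x)
    rw [mres_id, one_smul, mul_smul, hb, ha]
  have hinv : ∀ (x : B) (W : EP.base.Opens) (e₁ : W ≤ p₁.base ⁻¹ᵁ qd ⁻¹ᵁ F.U x)
      (e₂ : W ≤ p₂.base ⁻¹ᵁ qd ⁻¹ᵁ F.U x),
      p₁.base.appLE _ W e₁ (a x) = p₂.base.appLE _ W e₂ (a x) ∧
        p₁.base.appLE _ W e₁ (b x) = p₂.base.appLE _ W e₂ (b x) := by
    intro x W e₁ e₂
    obtain ⟨G₁, hG₁⟩ := exists_psec p₁ hp₁ (G x)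
    obtain ⟨G₂, hG₂⟩ := exists_psec p₂ hp₂ (G x)
    obtain ⟨H₁, hH₁⟩ := exists_psec p₁ hp₁ (H x)
    obtain ⟨H₂, hH₂⟩ := exists_psec p₂ hp₂ (H x)
    have eG : M1.mres (md EP) e₁ G₁ = M1.mres (md EP) e₂ G₂ :=
      ((hG x).comp hG₁).eq_of_eq el (hp₂.comp hl) ((hG x).comp hG₂) W e₁ e₂
    have eH : M1.mres (md EP) e₁ H₁ = M1.mres (md EP) e₂ H₂ :=
      ((hH x).comp hH₁).eq_of_eq ed (hp₂.comp hd) ((hH x).comp hH₂) W e₁ e₂
    have a₁ : G₁ = p₁.base.app _ (a x) • H₁ := hG₁.inj hp₁ (ha x ▸ hH₁.smul (a x))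
    have a₂ : G₂ = p₂.base.app _ (a x) • H₂ := hG₂.inj hp₂ (ha x ▸ hH₂.smul (a x))
    have b₁ : H₁ = p₁.base.app _ (b x) • G₁ := hH₁.inj hp₁ (hb x ▸ hG₁.smul (b x))
    have b₂ : H₂ = p₂.base.app _ (b x) • G₂ := hH₂.inj hp₂ (hb x ▸ hG₂.smul (b x))
    constructor
    · have h := eG
      rw [a₁, a₂, mres_smul, mres_smul, eH] at h
      exact (isGen_psec hp₂ (hHg x) hH₂ W e₂).1 h
    · have h := eH
      rw [b₁, b₂, mres_smul, mres_smul, eG] at h
      exact (isGen_psec hp₂ (hGg x) hG₂ W e₂).1 h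
  have hcov : Presieve.ofArrows (fun _ : PUnit.{u + 1} => E'.base) (fun _ => qd) ∈ Scheme.fppfPrecoverage B := by
    rw [Presieve.ofArrows_pUnit]
    exact Scheme.Hom.singleton_mem_fppfPrecoverage qd
  have hdesc : ∀ (x : B) (c : Γ(E'.base, qd ⁻¹ᵁ F.U x)),
      (∀ (W : EP.base.Opens) (e₁ : W ≤ p₁.base ⁻¹ᵁ qd ⁻¹ᵁ F.U x) (e₂ : W ≤ p₂.base ⁻¹ᵁ qd ⁻¹ᵁ F.U x),
        p₁.base.appLE _ W e₁ c = p₂.base.appLE _ W e₂ c) → ∃ c₀, qd.app (F.U x) c₀ = c := by
    intro x c hc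
    obtain ⟨c₀, hc₀, -⟩ := existsUnique_fun hcov (F.U x) (fun _ => c) (fun _ _ T p q hpq W e e' => by
      let r : T ⟶ EP.base := hpb.lift p q hpq
      have he₁ : p₁.base ⁻¹ᵁ qd ⁻¹ᵁ F.U x ≤ p₂.base ⁻¹ᵁ qd ⁻¹ᵁ F.U x := le_of_eq (by
        rw [← Scheme.Hom.comp_preimage, ← Scheme.Hom.comp_preimage, hpb.w])
      have e₁ : W ≤ r ⁻¹ᵁ p₁.base ⁻¹ᵁ qd ⁻¹ᵁ F.U x := by
        rw [← Scheme.Hom.comp_preimage, hpb.lift_fst]; exact e
      have h := congrArg (r.appLE (p₁.base ⁻¹ᵁ qd ⁻¹ᵁ F.U x) W e₁) (hc _ le_rfl he₁)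
      rw [appLE_appLE, appLE_appLE] at h
      simp only [r, hpb.lift_fst, hpb.lift_snd] at h
      exact h)
    exact ⟨c₀, hc₀ PUnit.unit⟩
  choose a₀ ha₀ using fun x => hdesc x (a x) (fun W e₁ e₂ => (hinv x W e₁ e₂).1)
  choose b₀ hb₀ using fun x => hdesc x (b x) (fun W e₁ e₂ => (hinv x W e₁ e₂).2)
  have hu : ∀ x, IsUnit (a₀ x) := fun x => IsUnit.of_mul_eq_one (b₀ x)
    (fun_ext hcov fun _ => by rw [map_mul, map_one, ha₀, hb₀, hab])
  refine ⟨(exists_iso_of_gen F.U (by simpa using F.cover (𝟙 B)) F.g (fun x => a₀ x • F.m x) F.hg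
    (fun x V hV => ?_) ?_).choose⟩
  · have hu' : IsUnit (ores hV (a₀ x)) := IsUnit.map (ores hV).hom (hu x)
    have := (F.hm x V hV).comp (hu'.unit.mulRight).bijective
    convert this using 1
    funext r
    simp only [Function.comp_apply, Units.mulRight_apply, IsUnit.unit_spec, mres_smul, mul_smul]
  · intro x y V hx hy t ht
    obtain ⟨t', ht'⟩ := (F.hm x V hx).2 (M1.mres M₂ hy (F.m y))
    simp only at ht'
    rw [mres_smul, mres_smul, ← ht', ← mul_smul, ← mul_smul]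
    congr 1
    refine fun_ext hcov fun _ => ?_
    rw [map_mul, map_mul]
    have eG : M1.mres _ (qd.preimage_mono hy) (G y) = qd.app V t • M1.mres _ (qd.preimage_mono hx) (G x) :=
      ((hG y).mres hy).inj hl (ht ▸ ((hG x).mres hx).smul t)
    have eH : M1.mres _ (qd.preimage_mono hy) (H y) = qd.app V t' • M1.mres _ (qd.preimage_mono hx) (H x) :=
      ((hH y).mres hy).inj hd (ht' ▸ ((hH x).mres hx).smul t')
    rw [← ha y, ← ha x, mres_smul, mres_smul, eH, ← mul_smul, ← mul_smul] at eG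
    have h := (hHg x _ (qd.preimage_mono hx)).1 eG
    have nat : ∀ (z : B) (hz : V ≤ F.U z),
        qd.app V (ores hz (a₀ z)) = ores (qd.preimage_mono hz) (a z) := fun z hz => by
      rw [← ha₀ z]
      exact ConcreteCategory.congr_hom (qd.naturality (homOfLE hz).op) (a₀ z)
    rw [nat y hy, nat x hx, h]

end Groth.Agent.ThetaGrp19
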