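import Groth.Agent.Lib.ThetaGrp19.AV
import Groth.Agent.Lib.ThetaGrp19.Descent
import Groth.Agent.Lib.AbRigid.Isogeny

/-!
Points of the theta group of a pullback along a surjective homomorphism: orthogonality to the kernel
and descent.
-/

set_option autoImplicit false
set_option backward.isDefEq.respectTransparency.types false

universe u

open CategoryTheory CategoryTheory.Limits MonoidalCategory CartesianMonoidalCategory MonObj AlgebraicGeometry
open CategoryTheory.Pseudofunctor

namespace Groth.Agent.ThetaGrp19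

open ThetaGrp

section Base

variable {S : Scheme.{u}} {A B : Over S} [GrpObj A] [GrpObj B] (f : A ⟶ B) [IsMonHom f]

theorem bcLift_mapObj (M : B.left.Modules) {T T' : Over S} (g : T ⟶ T') :
    bcLift A ((Scheme.Modules.pullback f.left).obj M) g ≫ mapObj f M T' = mapObj f M T ≫ bcLift B M g := by
  refine hom_ext_of_cart (isCart_proj B M T') ?_ ?_
  · show (A ◁ g).left ≫ (mapObj f M T').base = (mapObj f M T).base ≫ (B ◁ g).left
    rw [mapObj_base, mapObj_base, ← Over.comp_left, ← Over.comp_left, whisker_exchange]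
  · rw [Category.assoc, Category.assoc, mapObj_proj, bcLift_proj, mapObj_proj, ← Category.assoc, bcLift_proj]

/-- The point over a kernel element fixed by the descent datum. -/
theorem exists_kerPt (M : B.left.Modules) {T : Over S} (z : T ⟶ A) (hz : z ≫ f = 1) :
    ∃ b : thetaPts A ((Scheme.Modules.pullback f.left).obj M) T,
      IsOverPt b z ∧ b.1.hom ≫ mapObj f M T = mapObj f M T := by
  obtain ⟨b, hb, hb'⟩ := exists_mapPt f M z (1 : thetaPts B M T) (by rw [hz, IsOverPt, transl_one]; rfl)
  exact ⟨b, hb, hb'.trans (Category.comp_id _)⟩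

theorem isComm_one_right {L : A.left.Modules} {T : Over S} (γ : thetaPts A L T) : IsComm γ 1 1 := by
  unfold IsComm
  rw [scalar_one, Category.id_comp]
  exact (Category.comp_id _).trans (Category.id_comp _).symm

/-- If the image of a point lifts locally, the point is orthogonal to the kernel. -/
theorem commute_kernel [IsCommMonObj A] (hA : HZero A) {M : B.left.Modules} (hM : PicF.IsInvertible M)
    {T : Over S} {x z : T ⟶ A} (hz : z ≫ f = 1)
    (hloc : ∀ t : T.left, ∃ U : T.left.Opens, t ∈ U ∧ ∃ γ : thetaPts B M (Over.mk (U.ι ≫ T.hom)),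
      IsOverPt γ ((Over.homMk U.ι rfl : Over.mk (U.ι ≫ T.hom) ⟶ T) ≫ x ≫ f))
    {β₁ β₂ : thetaPts A ((Scheme.Modules.pullback f.left).obj M) T} (h₁ : IsOverPt β₁ x) (h₂ : IsOverPt β₂ z) :
    β₁ * β₂ = β₂ * β₁ := by
  have hL : PicF.IsInvertible ((Scheme.Modules.pullback f.left).obj M) := PicLoc.isInvertible_pullback _ hM
  obtain ⟨r, hr⟩ := exists_isComm hA hL β₁ β₂
  refine (mul_comm_iff hA hL hr).2 ?_
  choose U htU γ hγ using hloc
  refine eq_one_of_locally U htU r fun t => ?_
  let W := Over.mk ((U t).ι ≫ T.hom)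
  let g : W ⟶ T := Over.homMk (U t).ι rfl
  obtain ⟨π, hπ, heπ⟩ := exists_mapPt f M (g ≫ x) (γ t) (by rw [Category.assoc]; exact hγ t)
  obtain ⟨b, hb, heb⟩ := exists_kerPt f M (g ≫ z) (by rw [Category.assoc, hz, MonObj.comp_one])
  have hc : IsComm π b 1 := by
    have := IsComm.natural hM (mapObj f M W) (isCart_mapObj f M W) (𝟙 W) (mapObj_base_snd f M W) heπ
      (β₂' := b) (β₂ := 1) (heb.trans (Category.comp_id _).symm) (isComm_one_right (γ t))
    simpa using this
  have h := IsComm.eq_of_maps hA hL hr hc h₁ h₂ hπ hb g (𝟙 W) (Category.id_comp _).symm (Category.id_comp _).symm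
  rw [map_one] at h
  exact h

theorem isPullback_whiskerRight {N : Over S} (i : N ⟶ A) (hN : IsPullback i (toUnit N) f η[B]) (U : Over S) :
    IsPullback (A ◁ snd N U) (transl A (fst N U ≫ i) ≫ (A ◁ snd N U)) (f ▷ U) (f ▷ U) := by
  have hi : i ≫ f = 1 := by rw [hN.w, Hom.one_def]
  have w : (A ◁ snd N U) ≫ (f ▷ U) = (transl A (fst N U ≫ i) ≫ (A ◁ snd N U)) ≫ (f ▷ U) := by
    apply CartesianMonoidalCategory.hom_ext
    · simp only [Category.assoc, whiskerRight_fst, whiskerLeft_fst_assoc]
      rw [← Category.assoc, transl_fst, MonObj.mul_comp, Category.assoc, Category.assoc, hi, MonObj.comp_one,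
        MonObj.comp_one, _root_.mul_one]
    · simp only [Category.assoc, whiskerRight_snd, whiskerLeft_snd]
      rw [← Category.assoc, transl_snd]
  refine IsPullback.of_isLimit' ⟨w⟩ (PullbackCone.IsLimit.mk _
    (fun s => lift (s.fst ≫ fst A U)
      (lift (hN.lift ((s.fst ≫ fst A U)⁻¹ * (s.snd ≫ fst A U)) (toUnit _) ?_) (s.fst ≫ snd A U))) ?_ ?_ ?_)
  · have h := congrArg (fun q => q ≫ fst B U) s.condition
    simp only [Category.assoc, whiskerRight_fst] at h
    rw [MonObj.mul_comp, GrpObj.inv_comp, Category.assoc, Category.assoc, h, inv_mul_cancel, Hom.one_def]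
  · intro s
    rw [lift_whiskerLeft, lift_snd, ← comp_lift, lift_fst_snd, Category.comp_id]
  · intro s
    have h := congrArg (fun q => q ≫ snd B U) s.condition
    simp only [Category.assoc, whiskerRight_snd] at h
    apply CartesianMonoidalCategory.hom_ext
    · simp only [Category.assoc, whiskerLeft_fst, transl_fst, comp_mul, lift_fst, lift_snd_assoc, lift_fst_assoc,
        IsPullback.lift_fst, mul_inv_cancel_left]
    · simp only [Category.assoc, whiskerLeft_snd]
      rw [← Category.assoc (transl A _), transl_snd, lift_snd_assoc, lift_snd]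
      exact h
  · intro s m h1 h2
    have hfst : m ≫ fst A (N ⊗ U) = s.fst ≫ fst A U := by rw [← h1, Category.assoc, whiskerLeft_fst]
    have hsnd : m ≫ snd A (N ⊗ U) ≫ snd N U = s.fst ≫ snd A U := by rw [← h1, Category.assoc, whiskerLeft_snd]
    apply CartesianMonoidalCategory.hom_ext
    · rw [hfst, lift_fst]
    · rw [lift_snd]
      apply CartesianMonoidalCategory.hom_ext
      · rw [lift_fst]
        refine hN.hom_ext ?_ (toUnit_unique _ _)
        rw [IsPullback.lift_fst, ← h2]
        simp only [Category.assoc, whiskerLeft_fst, transl_fst, comp_mul, ← hfst, inv_mul_cancel_left]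
      · rw [lift_snd, Category.assoc]
        exact hsnd

end Base

variable {k : Type u} [Field k] {A B : Over (Spec (CommRingCat.of k))} [GrpObj A] [GrpObj B]
  [IsProper A.hom] [IsProper B.hom] [GeometricallyIntegral B.hom] (f : A ⟶ B) [IsMonHom f]

theorem fppf_whiskerRight [Surjective f.left] (U : Over (Spec (CommRingCat.of k))) :
    Flat (f ▷ U).left ∧ Surjective (f ▷ U).left ∧ LocallyOfFinitePresentation (f ▷ U).left := by
  have : IsIntegral B.left :=
    GeometricallyIntegral.geometrically_isIntegral (f := B.hom) (𝟙 _) (𝟙 B.left) B.hom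
      (IsPullback.of_horiz_isIso ⟨by simp⟩)
  have : Flat f.left := AbRigid.flat_of_surjective A B f
  have : LocallyOfFiniteType (f.left ≫ B.hom) := by rw [Over.w f]; infer_instance
  have : LocallyOfFiniteType f.left := locallyOfFiniteType_of_comp f.left B.hom
  have : IsLocallyNoetherian B.left := LocallyOfFiniteType.isLocallyNoetherian B.hom
  have hpb : IsPullback (fst A U).left (f ▷ U).left f.left (fst B U).left := by
    refine IsPullback.map (Over.forget _) (IsPullback.of_isLimit' ⟨(whiskerRight_fst f U).symm⟩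
      (PullbackCone.IsLimit.mk _ (fun s => lift s.fst (s.snd ≫ snd B U)) (fun s => lift_fst _ _) (fun s => ?_)
        (fun s m h1 h2 => ?_)))
    · apply CartesianMonoidalCategory.hom_ext
      · rw [Category.assoc, whiskerRight_fst, lift_fst_assoc, s.condition]
      · rw [Category.assoc, whiskerRight_snd, lift_snd]
    · apply CartesianMonoidalCategory.hom_ext
      · rw [h1, lift_fst]
      · rw [lift_snd, ← h2, Category.assoc, whiskerRight_snd]
  exact ⟨MorphismProperty.of_isPullback (P := @Flat) hpb ‹_›,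
    MorphismProperty.of_isPullback (P := @Surjective) hpb ‹_›,
    MorphismProperty.of_isPullback (P := @LocallyOfFinitePresentation) hpb inferInstance⟩

/-- A point orthogonal to the kernel descends. -/
theorem exists_descPt [Surjective f.left] {M : B.left.Modules} (hM : PicF.IsInvertible M)
    {N : Over (Spec (CommRingCat.of k))} (i : N ⟶ A) (hN : IsPullback i (toUnit N) f η[B])
    {U : Over (Spec (CommRingCat.of k))} {x : U ⟶ A}
    {β : thetaPts A ((Scheme.Modules.pullback f.left).obj M) U} (hβ : IsOverPt β x)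
    (hperp : ∀ β' b : thetaPts A ((Scheme.Modules.pullback f.left).obj M) (N ⊗ U),
      IsOverPt β' (snd N U ≫ x) → IsOverPt b (fst N U ≫ i) → β' * b = b * β') :
    ∃ γ : thetaPts B M U, IsOverPt γ (x ≫ f) := by
  obtain ⟨hfl, hsu, hfp⟩ := fppf_whiskerRight f U
  have hi : i ≫ f = 1 := by rw [hN.w, Hom.one_def]
  let h : (B ⊗ U).left ⟶ B.left := (transl B (x ≫ f) ≫ fst B U).left
  let e2 : (⟨(B ⊗ U).left, (Scheme.Modules.pullback h).obj M⟩ : CoGrothendieck (modPF.{u})) ⟶
    (⟨B.left, M⟩ : CoGrothendieck (modPF.{u})) := ⟨h, 𝟙 _⟩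
  have he2 : IsCart e2 := inferInstanceAs (IsIso (𝟙 _))
  let c := β.1.hom ≫ mapObj f M U ≫ proj B M U
  have hcb : (f ▷ U).left ≫ h = c.base := by
    show _ = β.1.hom.base ≫ (mapObj f M U).base ≫ (fst B U).left
    rw [hβ, ← Category.assoc, transl_mapObj_base f M U x, mapObj_base, Category.assoc, ← Over.comp_left]
    rfl
  have hc : IsCart c := (IsCart.of_isIso _).comp ((isCart_mapObj f M U).comp (isCart_proj B M U))
  obtain ⟨d, ⟨hdb, hd⟩, -⟩ := existsUnique_lift he2 c (f ▷ U).left hcb
  have hdc : IsCart d := IsCart.of_comp (hd ▸ hc) he2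
  obtain ⟨b, hb, heb⟩ := exists_kerPt f M (fst N U ≫ i) (by rw [Category.assoc, hi, MonObj.comp_one])
  let p₁ := bcLift A ((Scheme.Modules.pullback f.left).obj M) (snd N U)
  have hpb : IsPullback p₁.base (b.1.hom ≫ p₁).base (f ▷ U).left (f ▷ U).left := by
    rw [CoGrothendieck.categoryStruct_comp_base, hb]
    exact (isPullback_whiskerRight f i hN U).map (Over.forget _)
  have el : p₁ ≫ mapObj f M U = (b.1.hom ≫ p₁) ≫ mapObj f M U := by
    rw [Category.assoc, bcLift_mapObj, reassoc_of% heb]
  obtain ⟨β', hβ', heβ'⟩ := exists_restrictPt (snd N U) β hβ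
  have hbb : b.1.hom ≫ β'.1.hom = β'.1.hom ≫ b.1.hom :=
    congrArg (fun q : thetaPts A _ _ => q.1.hom) (hperp β' b hβ' hb)
  have ed : p₁ ≫ d = (b.1.hom ≫ p₁) ≫ d := by
    refine hom_ext_of_cart he2 ?_ ?_
    · show p₁.base ≫ d.base = (b.1.hom ≫ p₁).base ≫ d.base
      rw [hdb]; exact hpb.w
    · have k1 : p₁ ≫ β.1.hom = β'.1.hom ≫ p₁ := heβ'.symm
      have k2 : b.1.hom ≫ p₁ ≫ mapObj f M U = p₁ ≫ mapObj f M U := ((Category.assoc _ _ _).symm.trans el.symm)
      simp only [Category.assoc, hd, c]
      rw [reassoc_of% k1, reassoc_of% hbb, reassoc_of% k2]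
  obtain ⟨e⟩ := nonempty_iso_of_descent (PicLoc.isInvertible_pullback (fst B U).left hM)
    (PicLoc.isInvertible_pullback h hM) (E' := thetaObj A _ U) (f ▷ U).left
    (mapObj f M U) (isCart_mapObj f M U) (mapObj_base f M U) d hdc hdb p₁ (b.1.hom ≫ p₁)
    (isCart_bcLift A _ _) ((IsCart.of_isIso _).comp (isCart_bcLift A _ _)) hpb el ed
  refine exists_pt_of_pullCl (x ≫ f) ?_
  rw [PicLoc.pullCl_cl, PicLoc.pullCl_cl, PicGrp.cl_eq_cl_iff]
  exact ⟨e⟩

end Groth.Agent.ThetaGrp19
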