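import Groth.Prelude.Def_ThetaGrp

/-!
Cartesian morphisms in the Grothendieck construction of modules, translations in `A ⊗ T`.
-/

set_option autoImplicit false
set_option backward.isDefEq.respectTransparency.types false

universe u

open CategoryTheory CategoryTheory.Limits MonoidalCategory CartesianMonoidalCategory MonObj AlgebraicGeometry
open CategoryTheory.Pseudofunctor

namespace Groth.Agent.ThetaGrp19

set_option linter.unusedSectionVars false

open ThetaGrp

variable {X Y Z : CoGrothendieck (modPF.{u})}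

/-- A morphism is cartesian if its module part is an isomorphism. -/
def IsCart (f : X ⟶ Y) : Prop := IsIso f.fiber

theorem existsUnique_lift {l : Y ⟶ Z} (hl : IsCart l) (c : X ⟶ Z) (b : X.base ⟶ Y.base)
    (hb : b ≫ l.base = c.base) : ∃! β : X ⟶ Y, β.base = b ∧ β ≫ l = c := by
  have : IsIso l.fiber := hl
  let e := (modPF.map b.op.toLoc).toFunctor.map l.fiber ≫
    (modPF.mapComp l.base.op.toLoc b.op.toLoc).inv.toNatTrans.app Z.fiber
  have : IsIso e := inferInstanceAs (IsIso (_ ≫ _))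
  refine ⟨⟨b, c.fiber ≫ eqToHom (by rw [← hb]; rfl) ≫ inv e⟩, ⟨rfl, ?_⟩, ?_⟩
  · refine CoGrothendieck.Hom.ext _ _ hb ?_
    change (c.fiber ≫ eqToHom _ ≫ inv e) ≫ e = _
    simp
  · rintro ⟨b', φ⟩ ⟨rfl, h⟩
    congr 1
    have h' := CoGrothendieck.Hom.congr h
    change φ ≫ e = _ at h'
    rw [← Category.assoc, IsIso.eq_comp_inv, h']
    rfl

theorem hom_ext_of_cart {l : Y ⟶ Z} (hl : IsCart l) {β β' : X ⟶ Y} (hb : β.base = β'.base)
    (h : β ≫ l = β' ≫ l) : β = β' :=
  (existsUnique_lift hl (β' ≫ l) β'.base rfl).unique ⟨hb, h⟩ ⟨rfl, rfl⟩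

theorem IsCart.comp {f : X ⟶ Y} {g : Y ⟶ Z} (hf : IsCart f) (hg : IsCart g) : IsCart (f ≫ g) := by
  have : IsIso f.fiber := hf
  have : IsIso g.fiber := hg
  exact @IsIso.comp_isIso _ _ _ _ _ _ _ hf (@IsIso.comp_isIso _ _ _ _ _ _ _
    (Functor.map_isIso _ _)
      (((Cat.Hom.toNatIso (modPF.mapComp g.base.op.toLoc f.base.op.toLoc)).app Z.fiber).isIso_inv))

variable {S : Scheme.{u}} (A : Over S) [GrpObj A]

section

variable {A}

theorem comp_transl {T G : Over S} (g : T ⟶ G) {x : T ⟶ A} {y : G ⟶ A} (h : g ≫ y = x) :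
    transl A x ≫ (A ◁ g) = (A ◁ g) ≫ transl A y := by
  apply CartesianMonoidalCategory.hom_ext
  · simp only [Category.assoc, whiskerLeft_fst, transl_fst, comp_mul, whiskerLeft_snd_assoc, h]
  · simp only [Category.assoc, whiskerLeft_snd, transl_snd, ← Category.assoc (transl A x) (snd A T) g]

theorem comp_of_transl_eq {T G : Over S} (g : T ⟶ G) {x : T ⟶ A} {y : G ⟶ A}
    (h : transl A x ≫ (A ◁ g) = (A ◁ g) ≫ transl A y) : g ≫ y = x := by
  have := congrArg (fun q => lift (1 : T ⟶ A) (𝟙 T) ≫ q ≫ fst A G) h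
  simpa [transl_fst, comp_mul, transl, lift_whiskerLeft_assoc, MonObj.one_comp] using this.symm

theorem eq_of_transl_eq {T : Over S} {x y : T ⟶ A} (h : transl A x = transl A y) : x = y := by
  have := congrArg (fun q => lift (1 : T ⟶ A) (𝟙 T) ≫ q ≫ fst A T) h
  simpa [transl_fst, comp_mul, MonObj.one_comp] using this

end

variable (L : A.left.Modules)

/-- The structure morphism `(A ×_S T, L_T) ⟶ (A, L)`. -/
noncomputable def proj (T : Over S) : thetaObj A L T ⟶ (⟨A.left, L⟩ : CoGrothendieck (modPF.{u})) :=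
  ⟨(fst A T).left, 𝟙 _⟩

theorem isCart_proj (T : Over S) : IsCart (proj A L T) := inferInstanceAs (IsIso (𝟙 _))

theorem bcLift_proj {T G : Over S} (g : T ⟶ G) : bcLift A L g ≫ proj A L G = proj A L T := by
  have hb : (A ◁ g).left ≫ (fst A G).left = (fst A T).left := by rw [← Over.comp_left, whiskerLeft_fst]
  refine CoGrothendieck.Hom.ext _ _ hb ?_
  change ((Scheme.Modules.pullbackCongr _).hom.app L ≫
      (Scheme.Modules.pullbackComp (A ◁ g).left (fst A G).left).inv.app L) ≫
    (Scheme.Modules.pullback (A ◁ g).left).map (𝟙 _) ≫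
      (Scheme.Modules.pullbackComp (A ◁ g).left (fst A G).left).hom.app L = 𝟙 _ ≫ eqToHom _
  rw [CategoryTheory.Functor.map_id]
  simp [Scheme.Modules.pullbackCongr]

theorem isCart_bcLift {T G : Over S} (g : T ⟶ G) : IsCart (bcLift A L g) :=
  @IsIso.comp_isIso _ _ _ _ _ _ _
    (((Scheme.Modules.pullbackCongr _).app L).isIso_hom) (((Scheme.Modules.pullbackComp _ _).app L).isIso_inv)

theorem bcLift_comp {T G H : Over S} (g : T ⟶ G) (h : G ⟶ H) :
    bcLift A L g ≫ bcLift A L h = bcLift A L (g ≫ h) :=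
  hom_ext_of_cart (isCart_proj A L H)
    (by show (A ◁ g).left ≫ (A ◁ h).left = (A ◁ (g ≫ h)).left; rw [← Over.comp_left, ← MonoidalCategory.whiskerLeft_comp])
    (by rw [Category.assoc, bcLift_proj, bcLift_proj, bcLift_proj])

end Groth.Agent.ThetaGrp19
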