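import Groth.Agent.Lib.ThetaGrp19.Comm
import Groth.Agent.Lib.AbDual21.Phi
import Groth.Agent.Lib.TensorMod.Invertible
import Groth.Agent.Lib.TensorMod.PicLaw

/-!
Functions on abelian varieties; points of the theta group from trivializations of the Mumford bundle;
the base change morphism and the morphism induced by a homomorphism.
-/

set_option autoImplicit false
set_option backward.isDefEq.respectTransparency.types false

universe u

open CategoryTheory CategoryTheory.Limits MonoidalCategory CartesianMonoidalCategory MonObj AlgebraicGeometry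
open CategoryTheory.Pseudofunctor

namespace Groth.Agent.ThetaGrp19

open ThetaGrp Groth.Agent.PicDesc21

set_option linter.unusedSectionVars false

theorem geometricallyConnected_of_integral {X Y : Scheme.{u}} (f : X ⟶ Y) [GeometricallyIntegral f] :
    GeometricallyConnected f := ⟨fun K _ y Z fst snd hpb => by
  have : IsIntegral Z := GeometricallyIntegral.geometrically_isIntegral y fst snd hpb
  infer_instance⟩

theorem hzero_of_field {k : Type u} [Field k] (A : Over (Spec (CommRingCat.of k))) [IsProper A.hom]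
    [GeometricallyIntegral A.hom] : HZero A :=
  have := geometricallyConnected_of_integral A.hom
  fun _ _ => AbDual21.bijective_appTop _

variable {S : Scheme.{u}} {A B : Over S} [GrpObj A] [GrpObj B] {L : A.left.Modules}

theorem whiskerLeft_mul {T : Over S} (x : T ⟶ A) : (A ◁ x) ≫ μ[A] = transl A x ≫ fst A T := by
  rw [transl_fst, Hom.mul_def]
  congr 1

/-- Pullback of classes along the trivialising open. -/
theorem pullCl_ι_of_trivial {X : Scheme.{u}} {M : X.Modules} {U : X.Opens}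
    (e : M.restrict U.ι ≅ Coh.structureModule (U : Scheme.{u})) :
    PicF.pullCl U.ι (PicF.cl M) = PicF.cl (Coh.structureModule (U : Scheme.{u})) :=
  Quot.sound ⟨((Scheme.Modules.restrictFunctorIsoPullback U.ι).app M).symm ≪≫ e⟩

theorem exists_pt_of_pullCl {T : Over S} (x : T ⟶ A)
    (h : PicF.pullCl (fst A T).left (PicF.cl L) = PicF.pullCl (transl A x ≫ fst A T).left (PicF.cl L)) :
    ∃ β : thetaPts A L T, IsOverPt β x := by
  rw [PicLoc.pullCl_cl, PicLoc.pullCl_cl, PicGrp.cl_eq_cl_iff] at h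
  obtain ⟨e⟩ := h
  let c : thetaObj A L T ⟶ (⟨A.left, L⟩ : CoGrothendieck (modPF.{u})) := ⟨(transl A x ≫ fst A T).left, e.hom⟩
  obtain ⟨p, ⟨hpb, hp⟩, -⟩ := existsUnique_lift (isCart_proj A L T) c (transl A x).left (by
    show (transl A x).left ≫ (fst A T).left = _
    rw [← Over.comp_left])
  have hc : IsCart c := inferInstanceAs (IsIso e.hom)
  obtain ⟨β, hβ, -⟩ := exists_pt A L x p hpb (IsCart.of_comp (hp ▸ hc) (isCart_proj A L T))
  exact ⟨β, hβ⟩

theorem pullCl_of_pt {T : Over S} {x : T ⟶ A} {β : thetaPts A L T} (hβ : IsOverPt β x) :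
    PicF.pullCl (fst A T).left (PicF.cl L) = PicF.pullCl (transl A x ≫ fst A T).left (PicF.cl L) := by
  rw [PicLoc.pullCl_cl, PicLoc.pullCl_cl, PicGrp.cl_eq_cl_iff]
  have hc : IsIso (β.1.hom ≫ proj A L T).fiber := (IsCart.of_isIso β.1.hom).comp (isCart_proj A L T)
  have hb : (β.1.hom ≫ proj A L T).base = (transl A x ≫ fst A T).left := by
    rw [CoGrothendieck.categoryStruct_comp_base, hβ]; rfl
  have e : (Scheme.Modules.pullback (β.1.hom ≫ proj A L T).base).obj L ≅
      (Scheme.Modules.pullback (transl A x ≫ fst A T).left).obj L := eqToIso (by rw [hb])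
  exact ⟨(@asIso _ _ _ _ _ hc) ≪≫ e⟩

/-- Over a small open around any point, a point of `K(L)` lifts to the theta group. -/
theorem exists_pt_of_mumfordTriv (hL : PicF.IsInvertible L) {T : Over S} {z : T ⟶ A}
    (h : IsMumfordTriv A L z) (t : T.left) :
    ∃ U : T.left.Opens, t ∈ U ∧ ∃ β : thetaPts A L (Over.mk (U.ι ≫ T.hom)),
      IsOverPt β ((Over.homMk U.ι rfl : Over.mk (U.ι ≫ T.hom) ⟶ T) ≫ z) := by
  obtain ⟨M, hM, ⟨e⟩⟩ := h
  obtain ⟨U, htU, ⟨i₁⟩, ⟨i₂⟩⟩ := M2.exists_common_trivial hM (PicLoc.isInvertible_pullback z.left hL) t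
  refine ⟨U, htU, exists_pt_of_pullCl _ ?_⟩
  let g : Over.mk (U.ι ≫ T.hom) ⟶ T := Over.homMk U.ι rfl
  have h0 := congrArg (PicF.pullCl (A ◁ g).left) (M2.cl_eq_of_iso e)
  simp only [← PicGrp.mulCl_cl, ← PicLoc.pullCl_cl, pullCl_mulCl, pullCl_pullCl] at h0
  have h1 : (A ◁ g).left ≫ (snd A T).left = (snd A (Over.mk (U.ι ≫ T.hom))).left ≫ U.ι := by
    rw [← Over.comp_left, whiskerLeft_snd, Over.comp_left]; rfl
  have h2 : (A ◁ g).left ≫ (snd A T ≫ z).left = (snd A (Over.mk (U.ι ≫ T.hom))).left ≫ U.ι ≫ z.left := by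
    rw [← Over.comp_left, ← Category.assoc, whiskerLeft_snd, Over.comp_left, Over.comp_left, Category.assoc]; rfl
  have h3 : (A ◁ g).left ≫ (fst A T).left = (fst A (Over.mk (U.ι ≫ T.hom))).left := by
    rw [← Over.comp_left, whiskerLeft_fst]
  have h4 : (A ◁ g).left ≫ ((A ◁ z) ≫ μ[A]).left = (transl A (g ≫ z) ≫ fst A _).left := by
    rw [← Over.comp_left, ← whiskerLeft_mul, MonoidalCategory.whiskerLeft_comp, Category.assoc]
  rw [h1, h2, h3, h4, ← pullCl_pullCl _ U.ι, pullCl_ι_of_trivial i₁, pullCl_structure, M2.one_mulCl,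
    ← pullCl_pullCl _ (U.ι ≫ z.left), ← pullCl_pullCl U.ι z.left, PicLoc.pullCl_cl z.left,
    pullCl_ι_of_trivial i₂, pullCl_structure, mulCl_one] at h0
  exact h0

theorem isCart_and_base_bcLift (L : A.left.Modules) {T G : Over S} (g : T ⟶ G) :
    IsCart (bcLift A L g) ∧ (bcLift A L g).base ≫ (snd A G).left = (snd A T).left ≫ g.left :=
  ⟨isCart_bcLift A L g, by
    show (A ◁ g).left ≫ _ = _
    rw [← Over.comp_left, whiskerLeft_snd, Over.comp_left]⟩

/-- Restriction of points along a morphism of bases. -/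
theorem exists_restrictPt {T G : Over S} (g : T ⟶ G) {x : G ⟶ A} (β : thetaPts A L G) (hβ : IsOverPt β x) :
    ∃ β' : thetaPts A L T, IsOverPt β' (g ≫ x) ∧ β'.1.hom ≫ bcLift A L g = bcLift A L g ≫ β.1.hom :=
  exists_pullPt (bcLift A L g) (isCart_bcLift A L g) (by
    show (transl A (g ≫ x)).left ≫ (A ◁ g).left = (A ◁ g).left ≫ (transl A x).left
    rw [← Over.comp_left, ← Over.comp_left, comp_transl g rfl]) β hβ

section Hom

variable (f : A ⟶ B) [IsMonHom f] (M : B.left.Modules) (T : Over S)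

theorem exists_mapObj : ∃! F : thetaObj A ((Scheme.Modules.pullback f.left).obj M) T ⟶ thetaObj B M T,
    F.base = (f ▷ T).left ∧ F ≫ proj B M T = proj A _ T ≫ ⟨f.left, 𝟙 _⟩ :=
  existsUnique_lift (isCart_proj B M T) _ _ (by
    show (f ▷ T).left ≫ (fst B T).left = (fst A T).left ≫ f.left
    rw [← Over.comp_left, ← Over.comp_left, whiskerRight_fst])

/-- The morphism of theta objects induced by a homomorphism. -/
noncomputable def mapObj : thetaObj A ((Scheme.Modules.pullback f.left).obj M) T ⟶ thetaObj B M T :=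
  (exists_mapObj f M T).choose

theorem mapObj_base : (mapObj f M T).base = (f ▷ T).left := (exists_mapObj f M T).choose_spec.1.1

theorem mapObj_proj : mapObj f M T ≫ proj B M T = proj A _ T ≫ ⟨f.left, 𝟙 _⟩ :=
  (exists_mapObj f M T).choose_spec.1.2

theorem isCart_mapObj : IsCart (mapObj f M T) := by
  refine IsCart.of_comp ?_ (isCart_proj B M T)
  rw [mapObj_proj]
  exact (isCart_proj A _ T).comp (inferInstanceAs (IsIso (𝟙 _)))

theorem mapObj_base_snd : (mapObj f M T).base ≫ (snd B T).left = (snd A T).left ≫ (𝟙 T : T ⟶ T).left := by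
  rw [mapObj_base, Over.id_left, Category.comp_id, ← Over.comp_left, whiskerRight_snd]

theorem transl_mapObj_base (x : T ⟶ A) :
    (transl A x).left ≫ (mapObj f M T).base = (mapObj f M T).base ≫ (transl B (x ≫ f)).left := by
  rw [mapObj_base, ← Over.comp_left, ← Over.comp_left]
  congr 1
  apply CartesianMonoidalCategory.hom_ext
  · simp only [Category.assoc, transl_fst, comp_mul, whiskerRight_fst, whiskerRight_snd_assoc]
    rw [← Category.assoc, transl_fst, MonObj.mul_comp, Category.assoc]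
  · simp only [Category.assoc, transl_snd, whiskerRight_snd]

variable {T} in
/-- Pullback of points along a homomorphism. -/
theorem exists_mapPt (x : T ⟶ A) (β : thetaPts B M T) (hβ : IsOverPt β (x ≫ f)) :
    ∃ β' : thetaPts A ((Scheme.Modules.pullback f.left).obj M) T, IsOverPt β' x ∧
      β'.1.hom ≫ mapObj f M T = mapObj f M T ≫ β.1.hom :=
  exists_pullPt (mapObj f M T) (isCart_mapObj f M T) (transl_mapObj_base f M T x) β hβ

end Hom

end Groth.Agent.ThetaGrp19

namespace Groth.Agent.ThetaGrp19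

theorem eq_one_of_locally {X : Scheme.{u}} (V : X → X.Opens) (hV : ∀ x, x ∈ V x) (r : Γ(X, ⊤))
    (h : ∀ x, (V x).ι.appTop r = 1) : r = 1 := by
  refine X.sheaf.eq_of_locally_eq' V ⊤ (fun x => homOfLE le_top)
    (fun z _ => TopologicalSpace.Opens.mem_iSup.2 ⟨z, hV z⟩) _ _ fun x => ?_
  have hle : V x ≤ (V x).ι ''ᵁ ⊤ := (Scheme.Opens.ι_image_top (V x)).ge
  have h0 := h x
  rw [Scheme.Opens.ι_appTop] at h0
  have h1 := congrArg (M1.ores hle) h0
  erw [M1.ores_ores, map_one] at h1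
  exact h1.trans (map_one _).symm

end Groth.Agent.ThetaGrp19

namespace Groth.Agent.ThetaGrp19

open ThetaGrp

variable {S : Scheme.{u}} {A : Over S} [GrpObj A] [IsCommMonObj A] {L : A.left.Modules}

omit [IsCommMonObj A] in
theorem IsComm.unique (hA : HZero A) (hL : PicF.IsInvertible L) {T : Over S} {β₁ β₂ : thetaPts A L T}
    {r r' : Γ(T.left, ⊤)} (h : IsComm β₁ β₂ r) (h' : IsComm β₁ β₂ r') : r = r' := by
  refine scalar_injective hA hL ((cancel_mono (β₂.1.hom ≫ β₁.1.hom)).1 ?_)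
  exact h.symm.trans h'

/-- The commutator only depends on the points of `A` and is compatible with base change. -/
theorem IsComm.eq_of_maps (hA : HZero A) (hL : PicF.IsInvertible L) {T T₁ T₂ : Over S}
    {x₁ y₁ : T₁ ⟶ A} {x₂ y₂ : T₂ ⟶ A} {a₁ b₁ : thetaPts A L T₁} {a₂ b₂ : thetaPts A L T₂}
    {r₁ : Γ(T₁.left, ⊤)} {r₂ : Γ(T₂.left, ⊤)} (h₁ : IsComm a₁ b₁ r₁) (h₂ : IsComm a₂ b₂ r₂)
    (ha₁ : IsOverPt a₁ x₁) (hb₁ : IsOverPt b₁ y₁) (ha₂ : IsOverPt a₂ x₂) (hb₂ : IsOverPt b₂ y₂)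
    (g₁ : T ⟶ T₁) (g₂ : T ⟶ T₂) (hx : g₁ ≫ x₁ = g₂ ≫ x₂) (hy : g₁ ≫ y₁ = g₂ ≫ y₂) :
    g₁.left.appTop r₁ = g₂.left.appTop r₂ := by
  obtain ⟨a₁', pa₁, ea₁⟩ := exists_restrictPt g₁ a₁ ha₁
  obtain ⟨b₁', pb₁, eb₁⟩ := exists_restrictPt g₁ b₁ hb₁
  obtain ⟨a₂', pa₂, ea₂⟩ := exists_restrictPt g₂ a₂ ha₂
  obtain ⟨b₂', pb₂, eb₂⟩ := exists_restrictPt g₂ b₂ hb₂
  have c₁ : IsComm a₁' b₁' (g₁.left.appTop r₁) :=
    IsComm.natural hL _ (isCart_bcLift A _ g₁) g₁ (isCart_and_base_bcLift _ g₁).2 ea₁ eb₁ h₁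
  have c₂ : IsComm a₂' b₂' (g₂.left.appTop r₂) :=
    IsComm.natural hL _ (isCart_bcLift A _ g₂) g₂ (isCart_and_base_bcLift _ g₂).2 ea₂ eb₂ h₂
  rw [hx] at pa₁
  rw [hy] at pb₁
  obtain ⟨s, hs⟩ := exists_scalar_of_isOverPt hA hL pa₁ pa₂
  obtain ⟨t, ht⟩ := exists_scalar_of_isOverPt hA hL pb₁ pb₂
  exact ((c₁.scalar_left hL hs).scalar_right hL ht).unique hA hL c₂

omit [IsCommMonObj A] in
theorem isComm_one (T : Over S) : IsComm (1 : thetaPts A L T) 1 1 := by
  unfold IsComm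
  rw [scalar_one, Category.id_comp]

theorem eq_of_locally {X : Scheme.{u}} (V : X → X.Opens) (hV : ∀ x, x ∈ V x) (r r' : Γ(X, ⊤))
    (h : ∀ x, (V x).ι.appTop r = (V x).ι.appTop r') : r = r' := by
  refine X.sheaf.eq_of_locally_eq' V ⊤ (fun x => homOfLE le_top)
    (fun z _ => TopologicalSpace.Opens.mem_iSup.2 ⟨z, hV z⟩) _ _ fun x => ?_
  have h0 := h x
  rw [Scheme.Opens.ι_appTop] at h0
  have h1 := congrArg (M1.ores (Scheme.Opens.ι_image_top (V x)).ge) h0
  erw [M1.ores_ores, M1.ores_ores] at h1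
  exact h1

theorem exists_glue_fun {X : Scheme.{u}} (V : X → X.Opens) (hV : ∀ x, x ∈ V x)
    (r : ∀ x, Γ(V x, ⊤))
    (h : ∀ x y, (X.homOfLE (inf_le_left : V x ⊓ V y ≤ V x)).appTop (r x) =
      (X.homOfLE (inf_le_right : V x ⊓ V y ≤ V y)).appTop (r y)) :
    ∃ s : Γ(X, ⊤), ∀ x, (V x).ι.appTop s = r x := by
  obtain ⟨s, hs, -⟩ := X.sheaf.existsUnique_gluing' V ⊤ (fun x => homOfLE le_top)
    (fun z _ => TopologicalSpace.Opens.mem_iSup.2 ⟨z, hV z⟩)
    (fun x => M1.ores (Scheme.Opens.ι_image_top (V x)).ge (r x)) fun x y => by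
      have h0 := h x y
      rw [Scheme.homOfLE_appTop, Scheme.homOfLE_appTop] at h0
      have h1 := congrArg (M1.ores (Scheme.Opens.ι_image_top (V x ⊓ V y)).ge) h0
      erw [M1.ores_ores, M1.ores_ores] at h1
      show M1.ores (inf_le_left : V x ⊓ V y ≤ V x) _ = M1.ores (inf_le_right : V x ⊓ V y ≤ V y) _
      rw [M1.ores_ores, M1.ores_ores]
      exact h1
  refine ⟨s, fun x => ?_⟩
  have h1 : M1.ores le_top s = M1.ores (Scheme.Opens.ι_image_top (V x)).ge (r x) := hs x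
  have h2 := congrArg (M1.ores (Scheme.Opens.ι_image_top (V x)).le) h1
  erw [M1.ores_ores, M1.ores_ores] at h2
  rw [Scheme.Opens.ι_appTop]
  refine h2.trans ?_
  exact M1.ores_id _ _

end Groth.Agent.ThetaGrp19
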