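import Groth.Agent.Lib.ThetaGrp19.Cart
import Groth.Agent.Lib.ThetaGrp19.Scalar
import Groth.Agent.Lib.PicDesc21.Classes

/-!
Scalars in the theta group, commutators, transport of points along cartesian morphisms.
-/

set_option autoImplicit false
set_option backward.isDefEq.respectTransparency false
set_option backward.isDefEq.respectTransparency.types false

universe u

open CategoryTheory CategoryTheory.Limits MonoidalCategory CartesianMonoidalCategory MonObj AlgebraicGeometry
open CategoryTheory.Pseudofunctor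

namespace Groth.Agent.ThetaGrp19

open ThetaGrp

set_option linter.unusedSectionVars false

section General

variable {X Y Z : CoGrothendieck (modPF.{u})}

/-- Multiplication by a global function, as a morphism over the identity. -/
noncomputable def scal (X : CoGrothendieck (modPF.{u})) (c : Γ(X.base, ⊤)) : X ⟶ X :=
  ⟨𝟙 _, smulHom X.fiber c ≫ (𝟙 X : X ⟶ X).fiber⟩

theorem scal_comp (c : Γ(X.base, ⊤)) (g : X ⟶ Y) : scal X c ≫ g = ⟨g.base, smulHom X.fiber c ≫ g.fiber⟩ := by
  refine CoGrothendieck.Hom.ext _ _ (Category.id_comp _) ?_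
  have h := CoGrothendieck.Hom.congr (Category.id_comp g)
  change (smulHom X.fiber c ≫ (𝟙 X : X ⟶ X).fiber) ≫ _ = (smulHom X.fiber c ≫ g.fiber) ≫ _
  rw [Category.assoc, Category.assoc]
  exact congrArg (fun φ => smulHom X.fiber c ≫ φ) h

theorem scal_one : scal X 1 = 𝟙 X := by
  have h := scal_comp (X := X) 1 (𝟙 X)
  rw [Category.comp_id, smulHom_one, Category.id_comp] at h
  exact h

theorem scal_mul (c d : Γ(X.base, ⊤)) : scal X c ≫ scal X d = scal X (c * d) := by
  rw [scal_comp]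
  show CoGrothendieck.Hom.mk (𝟙 X.base) (smulHom X.fiber c ≫ smulHom X.fiber d ≫ (𝟙 X : X ⟶ X).fiber) = _
  rw [← Category.assoc, smulHom_comp]
  rfl

theorem smul_aux {S : Scheme.{u}} {a b c d : S.Modules} (φ : a ⟶ b) (r : Γ(S, ⊤)) (ψ : b ⟶ c) (θ : c ⟶ d) :
    (φ ≫ smulHom b r ≫ ψ) ≫ θ = smulHom a r ≫ φ ≫ ψ ≫ θ := by
  rw [← Category.assoc φ, ← smulHom_naturality φ r, Category.assoc, Category.assoc]

theorem comp_scal (g : X ⟶ Y) (hY : PicF.IsInvertible Y.fiber) (c : Γ(Y.base, ⊤)) :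
    g ≫ scal Y c = scal X (g.base.appTop c) ≫ g := by
  rw [scal_comp]
  refine CoGrothendieck.Hom.ext _ _ (Category.comp_id _) ?_
  have h := CoGrothendieck.Hom.congr (Category.comp_id g)
  change g.fiber ≫ (Scheme.Modules.pullback g.base).map (smulHom Y.fiber c ≫ (𝟙 Y : Y ⟶ Y).fiber) ≫ _ = _
  rw [CategoryTheory.Functor.map_comp, pullback_map_smulHom hY, ← Category.assoc g.fiber]
  refine (Eq.trans ?_ ((congrArg (fun φ => smulHom X.fiber (g.base.appTop c) ≫ φ) h).trans
    (Category.assoc _ _ _).symm))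
  exact (smul_aux _ _ _ _)

theorem scal_injective (hX : PicF.IsInvertible X.fiber) {c d : Γ(X.base, ⊤)} (h : scal X c = scal X d) : c = d := by
  refine smulHom_injective hX ?_
  have h' := CoGrothendieck.Hom.congr h
  change smulHom X.fiber c ≫ (𝟙 X : X ⟶ X).fiber = (smulHom X.fiber d ≫ (𝟙 X : X ⟶ X).fiber) ≫ _ at h'
  replace h' := h'.trans (Category.comp_id _)
  have : IsIso (𝟙 X : X ⟶ X).fiber :=
    ((Cat.Hom.toNatIso (modPF.mapId _)).app X.fiber).isIso_inv
  exact (cancel_mono _).1 h'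

theorem exists_scal (hX : PicF.IsInvertible X.fiber) (f : X ⟶ X) (hf : f.base = 𝟙 _) :
    ∃ c, f = scal X c := by
  have : IsIso (𝟙 X : X ⟶ X).fiber :=
    ((Cat.Hom.toNatIso (modPF.mapId _)).app X.fiber).isIso_inv
  obtain ⟨b, φ⟩ := f
  obtain rfl := hf
  obtain ⟨c, hc, -⟩ := existsUnique_smulHom hX (φ ≫ inv (𝟙 X : X ⟶ X).fiber)
  refine ⟨c, ?_⟩
  show CoGrothendieck.Hom.mk _ φ = CoGrothendieck.Hom.mk _ _
  rw [← hc, Category.assoc, IsIso.inv_hom_id, Category.comp_id]

theorem IsCart.of_comp {f : X ⟶ Y} {g : Y ⟶ Z} (hfg : IsCart (f ≫ g)) (hg : IsCart g) : IsCart f := by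
  have : IsIso g.fiber := hg
  have h1 : IsIso (f.fiber ≫ ((modPF.map f.base.op.toLoc).toFunctor.map g.fiber ≫
      (modPF.mapComp g.base.op.toLoc f.base.op.toLoc).inv.toNatTrans.app Z.fiber)) := hfg
  have h2 : IsIso ((modPF.map f.base.op.toLoc).toFunctor.map g.fiber ≫
      (modPF.mapComp g.base.op.toLoc f.base.op.toLoc).inv.toNatTrans.app Z.fiber) :=
    @IsIso.comp_isIso _ _ _ _ _ _ _ (Functor.map_isIso _ _)
      (((Cat.Hom.toNatIso (modPF.mapComp g.base.op.toLoc f.base.op.toLoc)).app Z.fiber).isIso_inv)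
  exact @IsIso.of_isIso_comp_right _ _ _ _ _ f.fiber _ h2 h1

theorem isIso_of_cart (f : X ⟶ Y) (hf : IsCart f) (hb : IsIso f.base) : IsIso f := by
  obtain ⟨q, ⟨hqb, hq⟩, -⟩ := existsUnique_lift hf (𝟙 Y) (inv f.base) (IsIso.inv_hom_id f.base)
  refine ⟨q, hom_ext_of_cart hf ?_ ?_, hq⟩
  · show f.base ≫ q.base = 𝟙 _
    rw [hqb, IsIso.hom_inv_id]
  · rw [Category.assoc, hq, Category.comp_id, Category.id_comp]

theorem exists_retraction_fiber (f : X ⟶ Y) (g : Y ⟶ X) (h : f ≫ g = 𝟙 X) :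
    IsSplitMono f.fiber := by
  have : IsIso (f ≫ g).fiber := by
    rw [h]; exact ((Cat.Hom.toNatIso (modPF.mapId _)).app X.fiber).isIso_inv
  refine IsSplitMono.mk' ⟨((modPF.map f.base.op.toLoc).toFunctor.map g.fiber ≫
    (modPF.mapComp g.base.op.toLoc f.base.op.toLoc).inv.toNatTrans.app X.fiber) ≫ inv (f ≫ g).fiber, ?_⟩
  exact (Category.assoc _ _ _).symm.trans (IsIso.hom_inv_id (f ≫ g).fiber)

theorem IsCart.of_isIso (f : X ⟶ Y) [IsIso f] : IsCart f := by
  have hq := exists_retraction_fiber (inv f) f (IsIso.inv_hom_id f)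
  have : IsIso (f ≫ inv f).fiber := by
    rw [IsIso.hom_inv_id]; exact ((Cat.Hom.toNatIso (modPF.mapId _)).app X.fiber).isIso_inv
  have h1 : IsSplitMono ((modPF.map f.base.op.toLoc).toFunctor.map (inv f).fiber) := inferInstance
  have : IsIso ((modPF.mapComp (inv f).base.op.toLoc f.base.op.toLoc).inv.toNatTrans.app X.fiber) :=
    ((Cat.Hom.toNatIso (modPF.mapComp _ _)).app X.fiber).isIso_inv
  let ψ := (modPF.map f.base.op.toLoc).toFunctor.map (inv f).fiber ≫
    (modPF.mapComp (inv f).base.op.toLoc f.base.op.toLoc).inv.toNatTrans.app X.fiber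
  have : Mono ψ := mono_comp _ _
  have : IsSplitEpi ψ := IsSplitEpi.mk' ⟨inv (f ≫ inv f).fiber ≫ f.fiber,
    (Category.assoc _ _ _).trans (IsIso.inv_hom_id (f ≫ inv f).fiber)⟩
  have h2 : IsIso ψ := isIso_of_mono_of_isSplitEpi ψ
  exact @IsIso.of_isIso_comp_right _ _ _ _ _ f.fiber ψ h2 ‹IsIso (f ≫ inv f).fiber›

end General

variable {S : Scheme.{u}} (A : Over S) [GrpObj A] (L : A.left.Modules)

theorem isInvertible_thetaObj (hL : PicF.IsInvertible L) (T : Over S) :
    PicF.IsInvertible (thetaObj A L T).fiber :=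
  PicLoc.isInvertible_pullback _ hL

/-- A point of the theta group from a cartesian morphism over a translation. -/
theorem exists_pt {T : Over S} (x : T ⟶ A) (p : thetaObj A L T ⟶ thetaObj A L T)
    (hp : p.base = (transl A x).left) (hc : IsCart p) : ∃ β : thetaPts A L T, IsOverPt β x ∧ β.1.hom = p := by
  have : IsIso p.base := by
    rw [hp]
    refine ⟨(transl A x⁻¹).left, ?_, ?_⟩
    · rw [← Over.comp_left, ← transl_mul, mul_inv_cancel, transl_one]; rfl
    · rw [← Over.comp_left, ← transl_mul, inv_mul_cancel, transl_one]; rfl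
  have := isIso_of_cart p hc this
  exact ⟨⟨asIso p, x, hp⟩, hp, rfl⟩

/-- The hypothesis that the functions on `A ×_S T` are those of `T`. -/
def HZero : Prop := ∀ (T : Scheme.{u}) (τ : T ⟶ S), Function.Bijective (pullback.snd A.hom τ).appTop

variable {A L}

theorem bijective_snd (hA : HZero A) (T : Over S) : Function.Bijective (snd A T).left.appTop :=
  hA T.left T.hom

variable (A L) in
/-- A function on the base as an endomorphism of the theta object. -/
noncomputable def scalar (T : Over S) (r : Γ(T.left, ⊤)) : thetaObj A L T ⟶ thetaObj A L T :=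
  scal _ ((snd A T).left.appTop r)

theorem scalar_injective (hA : HZero A) (hL : PicF.IsInvertible L) {T : Over S} {r r' : Γ(T.left, ⊤)}
    (h : scalar A L T r = scalar A L T r') : r = r' :=
  (bijective_snd hA T).1 (scal_injective (isInvertible_thetaObj A L hL T) h)

theorem scalar_one (T : Over S) : scalar A L T 1 = 𝟙 _ := by rw [scalar, map_one, scal_one]

theorem scalar_mul (T : Over S) (r r' : Γ(T.left, ⊤)) :
    scalar A L T r ≫ scalar A L T r' = scalar A L T (r * r') := by rw [scalar, scalar, scal_mul, ← map_mul]; rfl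

/-- Scalars pass through morphisms over morphisms of the bases. -/
theorem comp_scalar {B : Over S} [GrpObj B] {M : B.left.Modules} (hM : PicF.IsInvertible M) {T T' : Over S}
    (F : thetaObj A L T ⟶ thetaObj B M T') (g : T ⟶ T') (hF : F.base ≫ (snd B T').left = (snd A T).left ≫ g.left)
    (r : Γ(T'.left, ⊤)) : F ≫ scalar B M T' r = scalar A L T (g.left.appTop r) ≫ F := by
  rw [scalar, comp_scal F (isInvertible_thetaObj B M hM T')]
  have h := congrArg (fun q => Scheme.Hom.appTop q r) hF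
  simp only [Scheme.Hom.comp_appTop] at h
  exact congrArg (fun c => scal _ c ≫ F) h

theorem pt_comp_scalar (hL : PicF.IsInvertible L) {T : Over S} (β : thetaPts A L T) (r : Γ(T.left, ⊤)) :
    β.1.hom ≫ scalar A L T r = scalar A L T r ≫ β.1.hom := by
  obtain ⟨x, hx⟩ := β.2
  have h := comp_scalar hL β.1.hom (𝟙 T) (by
    rw [hx, Over.id_left, Category.comp_id, ← Over.comp_left, transl_snd]) r
  rw [h]
  rfl

theorem exists_scalar (hA : HZero A) (hL : PicF.IsInvertible L) {T : Over S}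
    (f : thetaObj A L T ⟶ thetaObj A L T) (hf : f.base = 𝟙 _) : ∃ r, f = scalar A L T r := by
  obtain ⟨c, rfl⟩ := exists_scal (isInvertible_thetaObj A L hL T) f hf
  obtain ⟨r, rfl⟩ := (bijective_snd hA T).2 c
  exact ⟨r, rfl⟩

theorem exists_scalar_of_isOverPt (hA : HZero A) (hL : PicF.IsInvertible L) {T : Over S} {x : T ⟶ A}
    {β β' : thetaPts A L T} (h : IsOverPt β x) (h' : IsOverPt β' x) :
    ∃ r, β'.1.hom = scalar A L T r ≫ β.1.hom := by
  obtain ⟨r, hr⟩ := exists_scalar hA hL (β'.1.hom ≫ β.1.inv) (by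
    have e : (β.1.hom ≫ β.1.inv).base = 𝟙 _ := by rw [Iso.hom_inv_id]; rfl
    rw [CoGrothendieck.categoryStruct_comp_base] at e ⊢
    rwa [show β'.1.hom.base = β.1.hom.base from h'.trans h.symm])
  exact ⟨r, by rw [← hr, Category.assoc, Iso.inv_hom_id, Category.comp_id]⟩

/-- `r` is the commutator of two points of the theta group. -/
def IsComm {T : Over S} (β₁ β₂ : thetaPts A L T) (r : Γ(T.left, ⊤)) : Prop :=
  β₁.1.hom ≫ β₂.1.hom = scalar A L T r ≫ β₂.1.hom ≫ β₁.1.hom

theorem exists_isComm [BraidedCategory (Over S)] [IsCommMonObj A] (hA : HZero A) (hL : PicF.IsInvertible L)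
    {T : Over S} (β₁ β₂ : thetaPts A L T) : ∃ r, IsComm β₁ β₂ r := by
  obtain ⟨x, hx⟩ := β₁.2
  obtain ⟨y, hy⟩ := β₂.2
  obtain ⟨r, hr⟩ := exists_scalar_of_isOverPt hA hL (x := x * y) (β := β₁ * β₂) (β' := β₂ * β₁)
    (by show (β₂.1.hom ≫ β₁.1.hom).base = _
        rw [CoGrothendieck.categoryStruct_comp_base, hx, hy, ← Over.comp_left, ← transl_mul, mul_comm])
    (by show (β₁.1.hom ≫ β₂.1.hom).base = _
        rw [CoGrothendieck.categoryStruct_comp_base, hx, hy, ← Over.comp_left, ← transl_mul])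
  exact ⟨r, hr⟩

theorem mul_comm_iff (hA : HZero A) (hL : PicF.IsInvertible L) {T : Over S} {β₁ β₂ : thetaPts A L T}
    {r : Γ(T.left, ⊤)} (h : IsComm β₁ β₂ r) : β₁ * β₂ = β₂ * β₁ ↔ r = 1 := by
  constructor
  · intro e
    have e' : β₂.1.hom ≫ β₁.1.hom = β₁.1.hom ≫ β₂.1.hom := congrArg (fun z : thetaPts A L T => z.1.hom) e
    refine scalar_injective hA hL ?_
    rw [scalar_one, ← cancel_mono (β₂.1.hom ≫ β₁.1.hom), Category.id_comp]
    exact h.symm.trans e'.symm
  · rintro rfl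
    rw [IsComm, scalar_one, Category.id_comp] at h
    exact Subtype.ext (Iso.ext h.symm)

/-- Commutators do not change when the points are multiplied by scalars. -/
theorem IsComm.scalar_left (hL : PicF.IsInvertible L) {T : Over S} {β₁ β₁' β₂ : thetaPts A L T}
    {r s : Γ(T.left, ⊤)} (h : IsComm β₁ β₂ r) (hs : β₁'.1.hom = scalar A L T s ≫ β₁.1.hom) :
    IsComm β₁' β₂ r := by
  unfold IsComm at h ⊢
  rw [hs, Category.assoc, h, ← Category.assoc β₂.1.hom, pt_comp_scalar hL β₂ s, Category.assoc,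
    ← Category.assoc (scalar A L T r) (scalar A L T s), scalar_mul, mul_comm r s, ← scalar_mul, Category.assoc]

theorem IsComm.scalar_right (hL : PicF.IsInvertible L) {T : Over S} {β₁ β₂ β₂' : thetaPts A L T}
    {r s : Γ(T.left, ⊤)} (h : IsComm β₁ β₂ r) (hs : β₂'.1.hom = scalar A L T s ≫ β₂.1.hom) :
    IsComm β₁ β₂' r := by
  unfold IsComm at h ⊢
  rw [hs, ← Category.assoc β₁.1.hom, pt_comp_scalar hL β₁ s, Category.assoc, h, Category.assoc,
    ← Category.assoc (scalar A L T s) (scalar A L T r), scalar_mul, mul_comm s r, ← scalar_mul, Category.assoc]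

/-- Commutators are natural with respect to cartesian morphisms. -/
theorem IsComm.natural [BraidedCategory (Over S)] [IsCommMonObj A] {B : Over S} [GrpObj B] {M : B.left.Modules} (hM : PicF.IsInvertible M)
    {T T' : Over S} (F : thetaObj A L T ⟶ thetaObj B M T') (hc : IsCart F) (g : T ⟶ T')
    (hF : F.base ≫ (snd B T').left = (snd A T).left ≫ g.left) {β₁ β₂ : thetaPts B M T'}
    {β₁' β₂' : thetaPts A L T} (h₁ : β₁'.1.hom ≫ F = F ≫ β₁.1.hom) (h₂ : β₂'.1.hom ≫ F = F ≫ β₂.1.hom)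
    {r : Γ(T'.left, ⊤)} (h : IsComm β₁ β₂ r) : IsComm β₁' β₂' (g.left.appTop r) := by
  unfold IsComm at h ⊢
  have e : (β₁'.1.hom ≫ β₂'.1.hom) ≫ F = (scalar A L T (g.left.appTop r) ≫ β₂'.1.hom ≫ β₁'.1.hom) ≫ F := by
    rw [Category.assoc, h₂, reassoc_of% h₁, h, ← Category.assoc F, comp_scalar hM F g hF, Category.assoc,
      Category.assoc, Category.assoc, h₁, reassoc_of% h₂]
  have hb : (β₁'.1.hom ≫ β₂'.1.hom).base = (scalar A L T (g.left.appTop r) ≫ β₂'.1.hom ≫ β₁'.1.hom).base := by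
    obtain ⟨x, hx⟩ := β₁'.2
    obtain ⟨y, hy⟩ := β₂'.2
    show β₁'.1.hom.base ≫ β₂'.1.hom.base = 𝟙 _ ≫ β₂'.1.hom.base ≫ β₁'.1.hom.base
    rw [Category.id_comp, hx, hy, ← Over.comp_left, ← Over.comp_left, ← transl_mul, ← transl_mul, mul_comm]
  exact hom_ext_of_cart hc hb e

/-- Transport of a point along a cartesian morphism compatible with the translations. -/
theorem exists_pullPt {B : Over S} [GrpObj B] {M : B.left.Modules} {T T' : Over S}
    (F : thetaObj A L T ⟶ thetaObj B M T') (hc : IsCart F) {x : T ⟶ A} {y : T' ⟶ B}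
    (hb : (transl A x).left ≫ F.base = F.base ≫ (transl B y).left) (β : thetaPts B M T') (hβ : IsOverPt β y) :
    ∃ β' : thetaPts A L T, IsOverPt β' x ∧ β'.1.hom ≫ F = F ≫ β.1.hom := by
  obtain ⟨p, ⟨hpb, hp⟩, -⟩ := existsUnique_lift hc (F ≫ β.1.hom) (transl A x).left (by
    rw [CoGrothendieck.categoryStruct_comp_base, hβ, hb])
  have hcart : IsCart p := IsCart.of_comp (hp ▸ hc.comp (IsCart.of_isIso β.1.hom)) hc
  obtain ⟨β', h1, h2⟩ := exists_pt A L x p hpb hcart
  exact ⟨β', h1, by rw [h2, hp]⟩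

end Groth.Agent.ThetaGrp19
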